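import Groth.Agent.MorLib.IndQA
import Mathlib.AlgebraicGeometry.Morphisms.UniversallyInjective
import Mathlib.CategoryTheory.EpiMono

/-! A monomorphism to an affine scheme which has sections over the pieces of a complete inverse system. -/

set_option autoImplicit false
universe u

namespace Groth.Agent.MonoLift

open AlgebraicGeometry CategoryTheory Limits TopologicalSpace

theorem exists_section {A : Type u} [CommRing A] (A' : ℕ → Type u) [∀ n, CommRing (A' n)]
    (φ : ∀ n, A' (n + 1) →+* A' n) (π : ∀ n, A →+* A' n)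
    (hcomp : ∀ n, (φ n).comp (π (n + 1)) = π n)
    (hinj : ∀ a b : A, (∀ n, π n a = π n b) → a = b)
    (hex : ∀ x : ∀ n, A' n, (∀ n, φ n (x (n + 1)) = x n) → ∃ a : A, ∀ n, π n a = x n)
    (hsurj : ∀ n, Function.Surjective (φ n)) (hnil : ∀ n, ∀ x ∈ RingHom.ker (φ n), IsNilpotent x)
    {T : Scheme.{u}} (h : T ⟶ Spec (CommRingCat.of A)) [Mono h] [LocallyOfFiniteType h]
    (g : ∀ n, Spec (CommRingCat.of (A' n)) ⟶ T)
    (hg : ∀ n, g n ≫ h = Spec.map (CommRingCat.ofHom (π n))) :
    ∃ s : Spec (CommRingCat.of A) ⟶ T, s ≫ h = 𝟙 _ := by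
  -- transition maps
  let τ : ∀ n, Spec (CommRingCat.of (A' n)) ⟶ Spec (CommRingCat.of (A' (n + 1))) :=
    fun n => Spec.map (CommRingCat.ofHom (φ n))
  have hτsurj : ∀ n, Function.Surjective (τ n) := fun n x => by
    obtain ⟨p, hp⟩ : x ∈ Set.range (PrimeSpectrum.comap (φ n)) := by
      rw [range_comap_of_surjective _ _ (hsurj n)]
      intro a ha
      exact nilpotent_iff_mem_prime.mp (hnil n a ha) _ x.isPrime
    exact ⟨p, hp⟩
  have hτg : ∀ n, τ n ≫ g (n + 1) = g n := fun n => by
    rw [← cancel_mono h, Category.assoc, hg, hg, ← Spec.map_comp]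
    exact congrArg (fun k => Spec.map (CommRingCat.ofHom k)) (hcomp n)
  -- a quasi-compact open containing all the sections
  obtain ⟨U, hUc, hU⟩ : ∃ U : T.Opens, IsCompact (U : Set T) ∧ ∀ x, g 0 x ∈ U := by
    obtain ⟨t, ht⟩ := (isCompact_range (g 0).continuous).elim_finite_subcover
      (fun i : T.affineOpens => (i.1 : Set T)) (fun i => i.1.isOpen) (fun x _ => by
        obtain ⟨_, ⟨V, hV, rfl⟩, hxV, -⟩ := T.isBasis_affineOpens.exists_subset_of_mem_open
          (Set.mem_univ x) isOpen_univ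
        exact Set.mem_iUnion.mpr ⟨⟨V, hV⟩, hxV⟩)
    refine ⟨⟨⋃ i ∈ t, (i.1 : Set T), isOpen_biUnion fun i _ => i.1.isOpen⟩,
      t.finite_toSet.isCompact_biUnion fun i _ => i.2.isCompact, fun x => ht ⟨x, rfl⟩⟩
  have hgU : ∀ n x, g n x ∈ U := by
    intro n
    induction n with
    | zero => exact hU
    | succ n ih =>
      intro x
      obtain ⟨y, rfl⟩ := hτsurj n x
      rw [← Scheme.Hom.comp_apply, hτg]
      exact ih y
  let h' := U.ι ≫ h
  haveI : CompactSpace (U : Scheme.{u}) := isCompact_iff_compactSpace.mp hUc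
  haveI : Mono h' := mono_comp _ _
  haveI : LocallyQuasiFinite h' :=
    LocallyQuasiFinite.of_injective h'.injective
  haveI hqa := Groth.Agent.MorLib.IQA.qa_of_locallyQuasiFinite h'
  -- the sections as maps to the affine hull
  let j := (U : Scheme.{u}).toSpecΓ
  let q : ∀ n, Spec (CommRingCat.of (A' n)) ⟶ (U : Scheme.{u}) := fun n =>
    IsOpenImmersion.lift U.ι (g n) (U.range_ι.symm ▸ Set.range_subset_iff.mpr (hgU n))
  have hq : ∀ n, q n ≫ h' = Spec.map (CommRingCat.ofHom (π n)) := fun n => by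
    simp only [q, h']
    rw [← Category.assoc, IsOpenImmersion.lift_fac, hg]
  have hτq : ∀ n, τ n ≫ q (n + 1) = q n := fun n => by
    rw [← cancel_mono h', Category.assoc, hq, hq, ← Spec.map_comp]
    exact congrArg (fun k => Spec.map (CommRingCat.ofHom k)) (hcomp n)
  let ψ : ∀ n, Γ((U : Scheme.{u}), ⊤) →+* A' n := fun n => (Spec.preimage (q n ≫ j)).hom
  have hψφ : ∀ n, (φ n).comp (ψ (n + 1)) = ψ n := fun n => by
    have : Spec.preimage (q (n + 1) ≫ j) ≫ CommRingCat.ofHom (φ n) = Spec.preimage (q n ≫ j) :=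
      Spec.map_injective (by simp [← hτq n, τ, Category.assoc])
    exact congrArg CommRingCat.Hom.hom this
  choose a ha using fun b => hex (fun n => ψ n b) (fun n => RingHom.congr_fun (hψφ n) b)
  let ψA : Γ((U : Scheme.{u}), ⊤) →+* A :=
    { toFun := a
      map_one' := hinj _ _ fun n => by simp [ha]
      map_zero' := hinj _ _ fun n => by simp [ha]
      map_add' := fun b c => hinj _ _ fun n => by simp [ha]
      map_mul' := fun b c => hinj _ _ fun n => by simp [ha] }
  have hψA : ∀ n, (π n).comp ψA = ψ n := fun n => RingHom.ext fun b => ha b n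
  let s := Spec.map (CommRingCat.ofHom ψA)
  have hs : ∀ n, Spec.map (CommRingCat.ofHom (π n)) ≫ s = q n ≫ j := fun n => by
    rw [← Spec.map_comp, ← CommRingCat.ofHom_comp, hψA]
    exact Spec.map_preimage _
  -- `π 0` is surjective with kernel in the Jacobson radical
  have hπ0 : Function.Surjective (π 0) := fun x => by
    let y : ∀ n, A' n := fun n => Nat.rec (motive := A') x (fun n z => (hsurj n z).choose) n
    obtain ⟨a, ha⟩ := hex y (fun n => (hsurj n (y n)).choose_spec)
    exact ⟨a, ha 0⟩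
  have hunit : ∀ a : A, IsUnit (π 0 a) → IsUnit a := fun a ha0 => by
    have hn : ∀ n, IsUnit (π n a) := by
      intro n
      induction n with
      | zero => exact ha0
      | succ n ih =>
        obtain ⟨b, hb⟩ := hsurj n ↑ih.unit⁻¹
        have hmem : π (n + 1) a * b - 1 ∈ RingHom.ker (φ n) := by
          rw [RingHom.mem_ker, map_sub, map_mul, map_one, ← RingHom.comp_apply, hcomp, hb]
          simp
        have : IsUnit (π (n + 1) a * b) := by
          simpa using (hnil n _ hmem).isUnit_add_one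
        exact isUnit_of_mul_isUnit_left this
    obtain ⟨b, hb⟩ := hex (fun n => ↑(hn n).unit⁻¹) (fun n => by
      have h1 : φ n (↑(hn (n + 1)).unit⁻¹) * π n a = 1 := by
        rw [← hcomp n, RingHom.comp_apply, ← map_mul, IsUnit.val_inv_mul, map_one]
      exact eq_comm.mp ((Units.inv_eq_of_mul_eq_one_left (by simpa using h1))))
    exact IsUnit.of_mul_eq_one b (hinj _ _ fun n => by simp [hb])
  have hrange : Set.range s ⊆ Set.range j := by
    rintro _ ⟨x, rfl⟩
    obtain ⟨m, hm, hxm⟩ := Ideal.exists_le_maximal x.asIdeal x.isPrime.ne_top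
    let xm : Spec (CommRingCat.of A) := ⟨m, hm.isPrime⟩
    have hxs : x ⤳ xm := (PrimeSpectrum.le_iff_specializes x xm).mp hxm
    have hker : RingHom.ker (π 0) ≤ m := by
      intro a ha
      by_contra hne
      obtain ⟨b, i, hi, e⟩ := hm.exists_inv hne
      have : IsUnit i := hunit i (by
        have := congrArg (π 0) e
        rw [map_add, map_mul, RingHom.mem_ker.mp ha] at this
        simp at this
        rw [this]
        exact isUnit_one)
      exact hm.ne_top (Ideal.eq_top_of_isUnit_mem _ hi this)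
    obtain ⟨p, hp⟩ : xm ∈ Set.range (PrimeSpectrum.comap (π 0)) := by
      rw [range_comap_of_surjective _ _ hπ0]
      exact hker
    have hmem : s xm ∈ Set.range j := by
      refine ⟨q 0 p, ?_⟩
      rw [← hp]
      exact (congr($(hs 0) p)).symm
    exact (hxs.map s.continuous).mem_open j.isOpenEmbedding.isOpen_range hmem
  let r := IsOpenImmersion.lift j s hrange
  have hr : ∀ n, Spec.map (CommRingCat.ofHom (π n)) ≫ r = q n := fun n => by
    rw [← cancel_mono j, Category.assoc, IsOpenImmersion.lift_fac, hs]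
  refine ⟨r ≫ U.ι, ?_⟩
  rw [Category.assoc, ← Spec.map_preimage (r ≫ U.ι ≫ h), ← Spec.map_id]
  congr 1
  ext b
  refine hinj _ _ fun n => ?_
  have key : Spec.preimage (r ≫ U.ι ≫ h) ≫ CommRingCat.ofHom (π n) = CommRingCat.ofHom (π n) :=
    Spec.map_injective (by rw [Spec.map_comp, Spec.map_preimage, ← Category.assoc, hr]; exact hq n)
  exact congr($key b)

theorem isIso_of_sections {A : Type u} [CommRing A] (A' : ℕ → Type u) [∀ n, CommRing (A' n)]
    (φ : ∀ n, A' (n + 1) →+* A' n) (π : ∀ n, A →+* A' n)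
    (hcomp : ∀ n, (φ n).comp (π (n + 1)) = π n)
    (hinj : ∀ a b : A, (∀ n, π n a = π n b) → a = b)
    (hex : ∀ x : ∀ n, A' n, (∀ n, φ n (x (n + 1)) = x n) → ∃ a : A, ∀ n, π n a = x n)
    (hsurj : ∀ n, Function.Surjective (φ n)) (hnil : ∀ n, ∀ x ∈ RingHom.ker (φ n), IsNilpotent x)
    {T : Scheme.{u}} (h : T ⟶ Spec (CommRingCat.of A)) [Mono h] [LocallyOfFiniteType h]
    (hsec : ∀ n, ∃ g : Spec (CommRingCat.of (A' n)) ⟶ T, g ≫ h = Spec.map (CommRingCat.ofHom (π n))) :
    IsIso h := by
  choose g hg using hsec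
  obtain ⟨s, hs⟩ := exists_section A' φ π hcomp hinj hex hsurj hnil h g hg
  haveI : IsSplitEpi h := ⟨⟨s, hs⟩⟩
  exact isIso_of_mono_of_isSplitEpi h

end Groth.Agent.MonoLift
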